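import Mathlib
import Cfsg.Agent.Lib.Helper22.Generation
import Cfsg.Agent.S1331

/-!
# Generation by centralizers: convenient forms
-/

set_option autoImplicit false

namespace Cfsg.Agent.Lib.Helper22

open Subgroup

variable {G : Type*} [Group G]

theorem isPGroup_of_pow_eq_one {p : ℕ} {A : Subgroup G} (hAp : ∀ x ∈ A, x ^ p = 1) :
    IsPGroup p A := by
  rintro ⟨x, hx⟩
  exact ⟨1, Subtype.ext (by simpa using hAp x hx)⟩

/-- Generation by centralizers of hyperplanes (index exactly `p`). -/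
theorem le_iSup_centralizer_hyperplane [Finite G] {p : ℕ} [Fact p.Prime] (A X : Subgroup G)
    (hAc : ∀ x ∈ A, ∀ y ∈ A, x * y = y * x) (hAp : ∀ x ∈ A, x ^ p = 1)
    (hA1 : p ≤ Nat.card A)
    (hX : ¬ p ∣ Nat.card X) (hAX : A ≤ normalizer (X : Set G)) :
    X ≤ ⨆ B : {B : Subgroup G // B ≤ A ∧ B.relIndex A = p},
      X ⊓ centralizer ((B : Subgroup G) : Set G) := by
  have hp : p.Prime := Fact.out
  have hA : IsPGroup p A := isPGroup_of_pow_eq_one hAp
  have key := eq_iSup_centralizer_hyperplane A X hAc hAp hX hAX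
  conv_lhs => rw [key]
  refine iSup_le ?_
  rintro ⟨D, hD1, hD2⟩
  by_cases hDp : D.relIndex A = p
  · exact le_iSup (fun B : {B : Subgroup G // B ≤ A ∧ B.relIndex A = p} =>
        X ⊓ centralizer ((B : Subgroup G) : Set G)) ⟨D, hD1, hDp⟩
  · obtain ⟨D', hD'1, hD'2⟩ := Cfsg.Agent.S1331.exists_hyperplane p A hA hA1
    have h1 : X ⊓ centralizer (D : Set G) ≤ X ⊓ centralizer (D' : Set G) := by
      refine inf_le_inf_left _ (centralizer_le ?_)
      obtain ⟨k, hk⟩ := IsPGroup.iff_card.mp hA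
      have h2 : D.relIndex A ∣ p ^ k := hk ▸ relIndex_dvd_card D A
      obtain ⟨j, _, hj⟩ := (Nat.dvd_prime_pow hp).mp h2
      have hj0 : j = 0 := by
        by_contra hj0
        have h3 : p ≤ p ^ j := Nat.le_self_pow hj0 p
        rw [← hj] at h3
        exact hDp (le_antisymm hD2 h3)
      rw [hj0, pow_zero, relIndex_eq_one] at hj
      exact hD'1.trans hj
    exact h1.trans (le_iSup (fun B : {B : Subgroup G // B ≤ A ∧ B.relIndex A = p} =>
        X ⊓ centralizer ((B : Subgroup G) : Set G)) ⟨D', hD'1, hD'2⟩)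

/-- a hyperplane of a group of order at least `p ^ 2` is nontrivial -/
theorem exists_ne_one_of_relIndex_eq [Finite G] {p : ℕ} [Fact p.Prime] {A B : Subgroup G}
    (hBA : B ≤ A) (hB : B.relIndex A = p) (hA2 : p ^ 2 ≤ Nat.card A) : ∃ b ∈ B, b ≠ 1 := by
  have hp : p.Prime := Fact.out
  by_contra h
  push Not at h
  have hbot : B = ⊥ := (eq_bot_iff_forall B).mpr h
  have h1 := relIndex_mul_natCard hBA
  rw [hB, hbot, card_bot, mul_one] at h1
  rw [← h1] at hA2
  nlinarith [hp.two_le]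

/-- Generation by centralizers of nonidentity elements. -/
theorem le_iSup_centralizer_elem [Finite G] {p : ℕ} [Fact p.Prime] (A X : Subgroup G)
    (hAc : ∀ x ∈ A, ∀ y ∈ A, x * y = y * x) (hAp : ∀ x ∈ A, x ^ p = 1)
    (hA2 : p ^ 2 ≤ Nat.card A)
    (hX : ¬ p ∣ Nat.card X) (hAX : A ≤ normalizer (X : Set G)) :
    X ≤ ⨆ a : {a : G // a ∈ A ∧ a ≠ 1}, X ⊓ centralizer {(a : G)} := by
  have hp : p.Prime := Fact.out
  refine (le_iSup_centralizer_hyperplane A X hAc hAp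
    (le_trans (by nlinarith [hp.two_le]) hA2) hX hAX).trans (iSup_le ?_)
  rintro ⟨B, hB1, hB2⟩
  obtain ⟨b, hb, hb1⟩ := exists_ne_one_of_relIndex_eq hB1 hB2 hA2
  refine le_trans ?_ (le_iSup (fun a : {a : G // a ∈ A ∧ a ≠ 1} => X ⊓ centralizer {(a : G)})
    ⟨b, hB1 hb, hb1⟩)
  exact inf_le_inf_left _ (centralizer_le (by simpa using hb))

/-- A subgroup containing all `C_X(a)` contains `X`. -/
theorem le_of_forall_centralizer_le [Finite G] {p : ℕ} [Fact p.Prime] (A X Y : Subgroup G)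
    (hAc : ∀ x ∈ A, ∀ y ∈ A, x * y = y * x) (hAp : ∀ x ∈ A, x ^ p = 1)
    (hA2 : p ^ 2 ≤ Nat.card A)
    (hX : ¬ p ∣ Nat.card X) (hAX : A ≤ normalizer (X : Set G))
    (h : ∀ a ∈ A, a ≠ 1 → X ⊓ centralizer {a} ≤ Y) : X ≤ Y :=
  (le_iSup_centralizer_elem A X hAc hAp hA2 hX hAX).trans
    (iSup_le fun a => h a.1 a.2.1 a.2.2)

end Cfsg.Agent.Lib.Helper22
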