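import Mathlib

/-! # BG 14.7 farm, piece (C): counting conjugates of elements with the same self-normalizing centralizer -/

set_option autoImplicit false

namespace Cfsg.Agent.Lib.Helper22.BG147

open Subgroup

universe u
variable {G : Type u} [Group G]

theorem conj_eq_aux {Z : Subgroup G} {D : Set G}
    (hC : ∀ z ∈ D, centralizer ({z} : Set G) = Z) (hN : normalizer (Z : Set G) = Z)
    {z z' g g' : G} (hz : z ∈ D) (hz' : z' ∈ D) (h : g * z * g⁻¹ = g' * z' * g'⁻¹) :
    g'⁻¹ * g ∈ Z ∧ z' = z := by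
  set k := g'⁻¹ * g with hk
  have h1 : k * z * k⁻¹ = z' := by
    have : k * z * k⁻¹ = g'⁻¹ * (g * z * g⁻¹) * g' := by rw [hk]; group
    rw [this, h]; group
  have h2 : k ∈ normalizer (Z : Set G) := by
    rw [mem_normalizer_iff]
    intro n
    constructor
    · intro hn
      rw [← hC z hz, mem_centralizer_singleton_iff] at hn
      rw [← hC z' hz', mem_centralizer_singleton_iff, ← h1]
      calc k * n * k⁻¹ * (k * z * k⁻¹) = k * (n * z) * k⁻¹ := by group
        _ = k * (z * n) * k⁻¹ := by rw [hn]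
        _ = k * z * k⁻¹ * (k * n * k⁻¹) := by group
    · intro hn
      rw [← hC z' hz', mem_centralizer_singleton_iff, ← h1] at hn
      rw [← hC z hz, mem_centralizer_singleton_iff]
      calc n * z = k⁻¹ * (k * n * k⁻¹ * (k * z * k⁻¹)) * k := by group
        _ = k⁻¹ * (k * z * k⁻¹ * (k * n * k⁻¹)) * k := by rw [hn]
        _ = z * n := by group
  rw [hN] at h2
  refine ⟨h2, ?_⟩
  have h3 := h2
  rw [← hC z hz, mem_centralizer_singleton_iff] at h3
  rw [← h1, h3]; group

/-- (C) generic: counting the conjugates of a set of elements with the same self-normalizing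
centralizer. -/
theorem card_conj_of_centralizer_eq [Finite G] {Z : Subgroup G} {D : Set G}
    (hC : ∀ z ∈ D, centralizer ({z} : Set G) = Z) (hN : normalizer (Z : Set G) = Z) :
    Nat.card Z * Set.ncard {a : G | ∃ g : G, ∃ z ∈ D, a = g * z * g⁻¹} = Set.ncard D * Nat.card G := by
  classical
  set I : Set G := {a : G | ∃ g : G, ∃ z ∈ D, a = g * z * g⁻¹} with hI
  have hex : ∀ a : I, ∃ p : G × G, p.2 ∈ D ∧ (a : G) = p.1 * p.2 * p.1⁻¹ := by
    rintro ⟨a, g, z, hz, ha⟩
    exact ⟨(g, z), hz, ha⟩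
  choose r hrD hr using hex
  let F : Z × I → D × G := fun x => (⟨(r x.2).2, hrD x.2⟩, (r x.2).1 * (x.1 : G))
  have hconj : ∀ (x : Z × I), (F x).2 * ((F x).1 : G) * ((F x).2)⁻¹ = (x.2 : G) := by
    rintro ⟨⟨h, hh⟩, a⟩
    have h3 := hh
    rw [← hC _ (hrD a), mem_centralizer_singleton_iff] at h3
    show (r a).1 * h * (r a).2 * ((r a).1 * h)⁻¹ = (a : G)
    rw [hr a]
    calc (r a).1 * h * (r a).2 * ((r a).1 * h)⁻¹ = (r a).1 * (h * (r a).2) * h⁻¹ * (r a).1⁻¹ := by group
      _ = (r a).1 * ((r a).2 * h) * h⁻¹ * (r a).1⁻¹ := by rw [h3]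
      _ = (r a).1 * (r a).2 * (r a).1⁻¹ := by group
  have hinj : Function.Injective F := by
    intro x x' hxx
    have ha : x.2 = x'.2 := by
      apply Subtype.ext
      rw [← hconj x, ← hconj x', hxx]
    have h2 : (F x).2 = (F x').2 := by rw [hxx]
    have h3 : (r x.2).1 * (x.1 : G) = (r x'.2).1 * (x'.1 : G) := h2
    rw [ha] at h3
    have h4 : (x.1 : G) = (x'.1 : G) := mul_left_cancel h3
    exact Prod.ext (Subtype.ext h4) ha
  have hsurj : Function.Surjective F := by
    rintro ⟨⟨z, hz⟩, g⟩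
    have haI : g * z * g⁻¹ ∈ I := ⟨g, z, hz, rfl⟩
    set a : I := ⟨g * z * g⁻¹, haI⟩ with ha
    have h1 : g * z * g⁻¹ = (r a).1 * (r a).2 * (r a).1⁻¹ := hr a
    obtain ⟨h2, h3⟩ := conj_eq_aux hC hN hz (hrD a) h1
    refine ⟨(⟨(r a).1⁻¹ * g, h2⟩, a), ?_⟩
    apply Prod.ext
    · exact Subtype.ext h3
    · show (r a).1 * ((r a).1⁻¹ * g) = g
      group
  have hcard := Nat.card_congr (Equiv.ofBijective F ⟨hinj, hsurj⟩)
  rw [Nat.card_prod, Nat.card_prod, _root_.Nat.card_coe_set_eq, _root_.Nat.card_coe_set_eq] at hcard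
  exact hcard

end Cfsg.Agent.Lib.Helper22.BG147
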