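import Mathlib

/-! # BG 14.7 farm, piece (E): abstract counting lemmas -/

set_option autoImplicit false

namespace Cfsg.Agent.Lib.Helper22.BG147

universe u v

theorem num_core {ι : Type v} (I : Finset ι) (N zc d c0 : ℕ) (a S k m x b : ι → ℕ)
    (hN : 0 < N)
    (h1 : ∀ i ∈ I, m i * x i = N) (h2 : ∀ i ∈ I, m i = S i * k i) (h3 : ∀ i ∈ I, zc = k i * a i)
    (h4 : ∀ i ∈ I, 3 * a i ≤ S i) (h5 : ∀ i ∈ I, 1 ≤ a i) (h6 : ∀ i ∈ I, b i = (S i - 1) * x i)
    (h7 : zc ≤ d + 1 + ∑ i ∈ I, (a i - 1)) (h8 : zc * c0 = d * N) (h9 : c0 + ∑ i ∈ I, b i ≤ N)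
    (h10 : 2 ≤ I.card) : False := by
  set A : ℤ := ∑ i ∈ I, (a i : ℤ) with hA
  set X : ℤ := ∑ i ∈ I, (x i : ℤ) with hX
  have e1 : ((∑ i ∈ I, (a i - 1) : ℕ) : ℤ) = A - I.card := by
    rw [Nat.cast_sum, hA]
    have : ∀ i ∈ I, ((a i - 1 : ℕ) : ℤ) = (a i : ℤ) - 1 := by
      intro i hi
      have := h5 i hi
      omega
    rw [Finset.sum_congr rfl this, Finset.sum_sub_distrib, Finset.sum_const, nsmul_eq_mul, mul_one]
  have e2 : (zc : ℤ) * ((∑ i ∈ I, b i : ℕ) : ℤ) = N * A - zc * X := by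
    rw [Nat.cast_sum, hA, hX, Finset.mul_sum, Finset.mul_sum, Finset.mul_sum, ← Finset.sum_sub_distrib]
    apply Finset.sum_congr rfl
    intro i hi
    have hS : 1 ≤ S i := by have := h4 i hi; have := h5 i hi; omega
    have c1 : ((S i - 1 : ℕ) : ℤ) = (S i : ℤ) - 1 := by omega
    rw [h6 i hi, Nat.cast_mul, c1]
    have c2 : (N : ℤ) = (S i : ℤ) * k i * x i := by
      rw [← h1 i hi, h2 i hi]; push_cast; ring
    have c3 : (zc : ℤ) = (k i : ℤ) * a i := by
      rw [h3 i hi]; push_cast; ring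
    rw [c2]
    have : (zc : ℤ) * (((S i : ℤ) - 1) * x i) = zc * S i * x i - zc * x i := by ring
    rw [this]
    congr 1
    rw [c3]; ring
  have e3 : 3 * (zc : ℤ) * X ≤ I.card * N := by
    rw [hX, Finset.mul_sum]
    have : ∀ i ∈ I, 3 * (zc : ℤ) * (x i : ℤ) ≤ (N : ℤ) := by
      intro i hi
      have c1 : 3 * zc ≤ m i := by
        rw [h2 i hi, h3 i hi]
        calc 3 * (k i * a i) = (3 * a i) * k i := by ring
          _ ≤ S i * k i := Nat.mul_le_mul_right _ (h4 i hi)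
      have c2 : 3 * zc * x i ≤ N := by
        rw [← h1 i hi]
        exact Nat.mul_le_mul_right _ c1
      exact_mod_cast c2
    calc ∑ i ∈ I, 3 * (zc : ℤ) * (x i : ℤ) ≤ ∑ _i ∈ I, (N : ℤ) := Finset.sum_le_sum this
      _ = I.card * N := by rw [Finset.sum_const, nsmul_eq_mul]
  have f7 : (zc : ℤ) ≤ d + 1 + (A - I.card) := by
    rw [← e1]; exact_mod_cast h7
  have f8 : (zc : ℤ) * c0 = d * N := by exact_mod_cast h8
  have f9 : (c0 : ℤ) + ((∑ i ∈ I, b i : ℕ) : ℤ) ≤ N := by exact_mod_cast h9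
  have f10 : (2 : ℤ) ≤ I.card := by exact_mod_cast h10
  have fN : (0 : ℤ) < N := by exact_mod_cast hN
  have fz : (0 : ℤ) ≤ zc := by positivity
  have g1 : (zc : ℤ) * c0 + zc * ((∑ i ∈ I, b i : ℕ) : ℤ) ≤ zc * N := by
    have := mul_le_mul_of_nonneg_left f9 fz
    linarith
  rw [f8, e2] at g1
  have g2 : ((zc : ℤ) - 1 - A + I.card) * N ≤ d * N := by
    apply mul_le_mul_of_nonneg_right _ fN.le
    linarith
  have e3' : 3 * ((zc : ℤ) * X) ≤ I.card * N := by linarith
  clear e3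
  generalize (I.card : ℤ) = n at *
  generalize (zc : ℤ) * X = W at *
  have g3 : (n - 1) * (N : ℤ) ≤ W := by nlinarith
  nlinarith

variable {G : Type u}

theorem ncard_biUnion_le {ι : Type v} (I : Finset ι) (B : ι → Set G) :
    Set.ncard (⋃ i ∈ I, B i) ≤ ∑ i ∈ I, Set.ncard (B i) := by
  classical
  induction I using Finset.induction_on with
  | empty => simp
  | insert i I hi ih =>
    rw [Finset.set_biUnion_insert, Finset.sum_insert hi]
    exact (Set.ncard_union_le _ _).trans (Nat.add_le_add_left ih _)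

theorem ncard_biUnion_eq [Finite G] {ι : Type v} (I : Finset ι) (B : ι → Set G)
    (hB : ∀ i ∈ I, ∀ j ∈ I, i ≠ j → B i ∩ B j = ∅) :
    Set.ncard (⋃ i ∈ I, B i) = ∑ i ∈ I, Set.ncard (B i) := by
  classical
  induction I using Finset.induction_on with
  | empty => simp
  | insert i I hi ih =>
    rw [Finset.set_biUnion_insert, Finset.sum_insert hi, Set.ncard_union_eq, ih]
    · intro j hj l hl hjl
      exact hB j (Finset.mem_insert_of_mem hj) l (Finset.mem_insert_of_mem hl) hjl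
    · rw [Set.disjoint_left]
      intro g hg hg'
      simp only [Set.mem_iUnion, exists_prop] at hg'
      obtain ⟨j, hj, hgj⟩ := hg'
      have hne : i ≠ j := by
        rintro rfl
        exact hi hj
      have := hB i (Finset.mem_insert_self _ _) j (Finset.mem_insert_of_mem hj) hne
      have hmem : g ∈ B i ∩ B j := ⟨hg, hgj⟩
      rw [this] at hmem
      exact hmem

end Cfsg.Agent.Lib.Helper22.BG147
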