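import Cfsg.Agent.Lib.Helper25.BG14Ifc
import Cfsg.Agent.Lib.Helper22.BG147C
import Cfsg.Agent.Lib.Helper22.BG147E0

/-! # BG 14.7 farm, piece (E): some member of the family of `Z` is not of type `P₁`

The other pieces (A) (B1) (B2) (B3) (B5) (D) are explicit hypotheses, in the exact shapes of the
skeleton of the farm. -/

set_option autoImplicit false

namespace Cfsg.Agent.Lib.Helper22.BG147

open Subgroup Cfsg Cfsg.Agent.Lib.Helper25.BG14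

universe u
variable {G : Type u} [Group G] [Finite G]

theorem exists_prime_subgroup {K : Subgroup G} (hK : K ≠ ⊥) :
    ∃ X : Subgroup G, X ≤ K ∧ (Nat.card X).Prime := by
  have h1 : Nat.card K ≠ 1 := by
    intro h
    exact hK ((Subgroup.card_eq_one).mp h)
  obtain ⟨p, hp, hpK⟩ := Nat.exists_prime_and_dvd h1
  have := Fact.mk hp
  obtain ⟨x, hx⟩ := exists_prime_orderOf_dvd_card' (G := K) p hpK
  refine ⟨zpowers (x : G), ?_, ?_⟩
  · rw [zpowers_le]; exact x.2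
  · rw [Nat.card_zpowers, Subgroup.orderOf_coe, hx]; exact hp

theorem exists_not_P1_of (h1377 : H1377 G) (h1379 : H1379a G)
    (hA : ∀ {M K Z X : Subgroup G}, PT M K Z → X ≤ K → (Nat.card X).Prime →
      ∃ M₁ K₁ : Subgroup G, PT M₁ K₁ Z ∧ X ≤ Ks M₁ K₁ ∧ Ks M K ≤ K₁ ∧ Ks M₁ K₁ ≤ K ∧
        ∀ g : G, M₁ ≠ M.map (MulAut.conj g).toMonoidHom)
    (hB1 : ∀ {M K Z : Subgroup G}, PT M K Z →
      IsCyclic Z ∧ Z ≤ M ∧ Z ⊓ sigmaCore M = Ks M K ∧ K ⊓ Ks M K = ⊥ ∧ Ks M K ≠ ⊥ ∧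
      (Nat.card K).Coprime (Nat.card (Ks M K)) ∧ Nat.card Z = Nat.card K * Nat.card (Ks M K) ∧
      3 * Nat.card (Ks M K) ≤ Nat.card (sigmaCore M))
    (hB2 : ∀ {M K Z : Subgroup G}, PT M K Z →
      (∀ z ∈ Z, z ∉ K → z ∉ Ks M K → centralizer ({z} : Set G) = Z) ∧
      normalizer (Z : Set G) = Z)
    (hB3 : ∀ {M₁ K₁ M₂ K₂ Z : Subgroup G}, PT M₁ K₁ Z → PT M₂ K₂ Z →
      ((∃ T : Subgroup G, (Nat.card T).Prime ∧ T ≤ Ks M₁ K₁ ∧ T ≤ Ks M₂ K₂) → M₁ = M₂) ∧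
      ((∃ g : G, M₂ = M₁.map (MulAut.conj g).toMonoidHom) → M₁ = M₂) ∧
      (M₁ = M₂ → K₁ = K₂) ∧
      (M₁ ≠ M₂ → (Nat.card (Ks M₁ K₁)).Coprime (Nat.card (Ks M₂ K₂))))
    (hB5 : ∀ {M K Z : Subgroup G}, PT M K Z → ∀ {z : G}, z ∈ Z →
      (∀ M₁ K₁ : Subgroup G, PT M₁ K₁ Z → z ∉ sigmaCore M₁) → centralizer ({z} : Set G) = Z)
    (hD : ∀ {M K Z : Subgroup G}, PT M K Z → ∀ (L : Subgroup G), IsCoatom L → ∀ (z g : G), z ∈ Z →
      (∀ M₁ K₁ : Subgroup G, PT M₁ K₁ Z → z ∉ sigmaCore M₁) →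
      g * z * g⁻¹ ∉ tildeOf L ((sigmaCore L : Set G) \ {1}))
    {M K Z : Subgroup G} (h : PT M K Z) :
    ∃ M₁ K₁ : Subgroup G, PT M₁ K₁ Z ∧ Nat.card M₁ ≠ Nat.card (sigmaCore M₁) * Nat.card K₁ := by
  classical
  by_contra hcon
  have hP1 : ∀ M₁ K₁ : Subgroup G, PT M₁ K₁ Z →
      Nat.card M₁ = Nat.card (sigmaCore M₁) * Nat.card K₁ := by
    intro M₁ K₁ h₁
    by_contra hne
    exact hcon ⟨M₁, K₁, h₁, hne⟩
  have : Fintype (Subgroup G) := Fintype.ofFinite _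
  set I : Finset (Subgroup G) := Finset.univ.filter (fun M₁ => ∃ K₁, PT M₁ K₁ Z) with hIdef
  have hI : ∀ M₁, M₁ ∈ I ↔ ∃ K₁, PT M₁ K₁ Z := by
    intro M₁
    simp [hIdef]
  let kk : Subgroup G → Subgroup G := fun M₁ => if h : ∃ K₁, PT M₁ K₁ Z then h.choose else ⊥
  have hkk : ∀ M₁ ∈ I, PT M₁ (kk M₁) Z := by
    intro M₁ hM₁
    have hex := (hI M₁).mp hM₁
    have : kk M₁ = hex.choose := dif_pos hex
    rw [this]
    exact hex.choose_spec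
  set D : Set G := {z | z ∈ Z ∧ ∀ M₁ K₁ : Subgroup G, PT M₁ K₁ Z → z ∉ sigmaCore M₁} with hDdef
  set C0 : Set G := {a : G | ∃ g : G, ∃ z ∈ D, a = g * z * g⁻¹} with hC0
  let B : Subgroup G → Set G := fun M₁ => tildeOf M₁ ((sigmaCore M₁ : Set G) \ {1})
  refine num_core I (Nat.card G) (Nat.card Z) D.ncard C0.ncard
    (fun M₁ => Nat.card (Ks M₁ (kk M₁))) (fun M₁ => Nat.card (sigmaCore M₁))
    (fun M₁ => Nat.card (kk M₁)) (fun M₁ => Nat.card M₁) (fun M₁ => M₁.index)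
    (fun M₁ => (B M₁).ncard) Nat.card_pos ?_ ?_ ?_ ?_ ?_ ?_ ?_ ?_ ?_ ?_
  · intro M₁ _
    exact M₁.card_mul_index
  · intro M₁ hM₁
    exact hP1 M₁ _ (hkk M₁ hM₁)
  · intro M₁ hM₁
    exact (hB1 (hkk M₁ hM₁)).2.2.2.2.2.2.1
  · intro M₁ hM₁
    exact (hB1 (hkk M₁ hM₁)).2.2.2.2.2.2.2
  · intro M₁ _
    exact Nat.card_pos
  · intro M₁ hM₁
    exact h1377 M₁ (hkk M₁ hM₁).max
  · -- the union bound
    have hsub : (Z : Set G) ⊆ (D ∪ {1}) ∪ ⋃ M₁ ∈ I, (((Ks M₁ (kk M₁) : Subgroup G) : Set G) \ {1}) := by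
      intro z hz
      by_cases hzD : z ∈ D
      · exact Or.inl (Or.inl hzD)
      by_cases hz1 : z = 1
      · exact Or.inl (Or.inr hz1)
      right
      have hex : ∃ M₁ K₁ : Subgroup G, PT M₁ K₁ Z ∧ z ∈ sigmaCore M₁ := by
        by_contra hno
        apply hzD
        refine ⟨hz, ?_⟩
        intro M₁ K₁ h₁ hzs
        exact hno ⟨M₁, K₁, h₁, hzs⟩
      obtain ⟨M₁, K₁, h₁, hzs⟩ := hex
      have hM₁ : M₁ ∈ I := (hI M₁).mpr ⟨K₁, h₁⟩
      simp only [Set.mem_iUnion, exists_prop]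
      refine ⟨M₁, hM₁, ?_, hz1⟩
      have h3 := (hB1 (hkk M₁ hM₁)).2.2.1
      have : z ∈ Z ⊓ sigmaCore M₁ := ⟨hz, hzs⟩
      rw [h3] at this
      exact this
    have h1 : Nat.card Z = (Z : Set G).ncard := _root_.Nat.card_coe_set_eq _
    rw [h1]
    calc (Z : Set G).ncard
        ≤ ((D ∪ {1}) ∪ ⋃ M₁ ∈ I, (((Ks M₁ (kk M₁) : Subgroup G) : Set G) \ {1})).ncard :=
          Set.ncard_le_ncard hsub (Set.toFinite _)
      _ ≤ (D ∪ {1}).ncard + (⋃ M₁ ∈ I, (((Ks M₁ (kk M₁) : Subgroup G) : Set G) \ {1})).ncard :=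
          Set.ncard_union_le _ _
      _ ≤ (D.ncard + 1) + ∑ M₁ ∈ I, (((Ks M₁ (kk M₁) : Subgroup G) : Set G) \ {1}).ncard := by
          apply Nat.add_le_add
          · have := Set.ncard_union_le D {1}
            rwa [Set.ncard_singleton] at this
          · exact ncard_biUnion_le _ _
      _ = D.ncard + 1 + ∑ M₁ ∈ I, (Nat.card (Ks M₁ (kk M₁)) - 1) := by
          congr 1
          apply Finset.sum_congr rfl
          intro M₁ _
          rw [Set.ncard_sdiff_singleton_of_mem (Subgroup.one_mem _)]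
          rfl
  · exact card_conj_of_centralizer_eq (fun z hz => hB5 h hz.1 hz.2) (hB2 h).2
  · -- disjointness
    have hdisjB : ∀ M₁ ∈ I, ∀ M₂ ∈ I, M₁ ≠ M₂ → B M₁ ∩ B M₂ = ∅ := by
      intro M₁ hM₁ M₂ hM₂ hne
      apply h1379 M₁ M₂ (hkk M₁ hM₁).max (hkk M₂ hM₂).max
      intro g hg
      exact hne ((hB3 (hkk M₁ hM₁) (hkk M₂ hM₂)).2.1 ⟨g, hg⟩)
    rw [← ncard_biUnion_eq I B hdisjB, ← Set.ncard_union_eq]
    · calc (C0 ∪ ⋃ i ∈ I, B i).ncard ≤ (Set.univ : Set G).ncard :=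
            Set.ncard_le_ncard (Set.subset_univ _) (Set.toFinite _)
        _ = Nat.card G := Set.ncard_univ G
    · rw [Set.disjoint_left]
      rintro a ⟨g, z, hz, rfl⟩ ha
      simp only [Set.mem_iUnion, exists_prop] at ha
      obtain ⟨M₁, hM₁, ha⟩ := ha
      exact hD h M₁ (hkk M₁ hM₁).max z g hz.1 hz.2 ha
  · -- at least two members
    obtain ⟨X, hXK, hXp⟩ := exists_prime_subgroup h.ne
    obtain ⟨M₁, K₁, h₁, -, -, -, hnc⟩ := hA h hXK hXp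
    have hne : M₁ ≠ M := by
      intro heq
      apply hnc 1
      rw [heq]
      ext x
      simp
    have hMI : M ∈ I := (hI M).mpr ⟨K, h⟩
    have hM₁I : M₁ ∈ I := (hI M₁).mpr ⟨K₁, h₁⟩
    have : ({M₁, M} : Finset (Subgroup G)) ⊆ I := by
      intro x hx
      simp only [Finset.mem_insert, Finset.mem_singleton] at hx
      rcases hx with rfl | rfl
      · exact hM₁I
      · exact hMI
    calc 2 = ({M₁, M} : Finset (Subgroup G)).card := (Finset.card_pair hne).symm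
      _ ≤ I.card := Finset.card_le_card this

end Cfsg.Agent.Lib.Helper22.BG147
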