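import Mathlib
import Cfsg.Agent.Lib.Helper31.CharP
import Cfsg.Agent.Lib.Helper23.PComp2
import Cfsg.Agent.Lib.Helper22.NormalizerQuot

/-!
# `p`-locals of groups with trivial `p`-layer
-/

set_option autoImplicit false

namespace Cfsg.Agent.Lib.Helper22

open Subgroup Cfsg Cfsg.Agent.Lib.Helper31

variable {G : Type*} [Group G]

theorem layer_quotient_eq_bot_of_pLayer [Finite G] (p : ℕ) (hL : pLayer p G = ⊥) :
    layer (G ⧸ pPrimeCore p G) = ⊥ := by
  rw [layer_eq_bot_iff]
  intro Kbar hK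
  obtain ⟨K, hK1, hK2⟩ := Cfsg.Agent.Lib.Helper23.exists_isPComponent_map_eq p hK
  have h1 : K ≤ pLayer p G := le_sSup hK1
  rw [hL, le_bot_iff] at h1
  exact IsComponent.ne_bot hK (by rw [← hK2, h1, Subgroup.map_bot])

theorem pLayer_eq_bot_of_layer_quotient (p : ℕ) (h : layer (G ⧸ pPrimeCore p G) = ⊥) :
    pLayer p G = ⊥ := by
  rw [layer_eq_bot_iff] at h
  unfold pLayer
  rw [sSup_eq_bot]
  intro K hK
  exact absurd hK.2.1 (h _)

theorem pLayer_eq_bot_iff [Finite G] (p : ℕ) :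
    pLayer p G = ⊥ ↔ layer (G ⧸ pPrimeCore p G) = ⊥ :=
  ⟨layer_quotient_eq_bot_of_pLayer p, pLayer_eq_bot_of_layer_quotient p⟩

theorem not_dvd_card_pPrimeCore [Finite G] (p : ℕ) [Fact p.Prime] :
    ¬ p ∣ Nat.card (pPrimeCore p G) := by
  have h := Cfsg.Agent.Lib.Lead.card_pPrimeCore_coprime (G := G) p
  intro hd
  have := Nat.Coprime.eq_one_of_dvd h.symm hd
  exact (Fact.out : p.Prime).one_lt.ne' this

theorem coprime_of_not_dvd {p n : ℕ} [Fact p.Prime] (h : ¬ p ∣ n) : n.Coprime p :=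
  ((Nat.Prime.coprime_iff_not_dvd Fact.out).mpr h).symm

/-- If `L_{p'}(G) = 1` and `N = N_G(P)` for a `p`-subgroup `P`, then `O_{p'}(N) ≤ O_{p'}(G)` and
`L_{p'}(N) = 1`. -/
theorem pLocal_of_pLayer_eq_bot [Finite G] (p : ℕ) [Fact p.Prime] (hL : pLayer p G = ⊥)
    (P : Subgroup G) (hP : IsPGroup p P) :
    pLayer p ↥(normalizer (P : Set G)) = ⊥ ∧
      (pPrimeCore p ↥(normalizer (P : Set G))).map (normalizer (P : Set G)).subtype ≤
        pPrimeCore p G := by
  set O := pPrimeCore p G with hOdef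
  have hO : ¬ p ∣ Nat.card O := not_dvd_card_pPrimeCore p
  set N := normalizer (P : Set G) with hNdef
  have hFs : generalizedFittingSubgroup (G ⧸ O) = pCore p (G ⧸ O) :=
    (genFitting_eq_pCore_iff_cores p).mpr
      ⟨Cfsg.Agent.Lib.Lead.pPrimeCore_quotient_pPrimeCore p G, layer_quotient_eq_bot_of_pLayer p hL⟩
  have hN := genFitting_normalizer_eq_pCore p hFs (P.map (QuotientGroup.mk' O)) (hP.map _)
  obtain ⟨hO', hE'⟩ := (genFitting_eq_pCore_iff_cores p).mp hN
  rw [normalizer_map_mk'_eq P O hP hO] at hO' hE'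
  set φ := (QuotientGroup.mk' O).subgroupMap N with hφ
  have hφs : Function.Surjective φ := (QuotientGroup.mk' O).subgroupMap_surjective N
  have h1 : (pPrimeCore p ↥N).map φ ≤ ⊥ := by
    rw [← hO']
    apply Cfsg.Agent.Lib.Lead.le_pPrimeCore
    · exact Subgroup.Normal.map inferInstance φ hφs
    · exact Nat.Coprime.of_dvd_left (card_map_dvd _ _)
        (Cfsg.Agent.Lib.Lead.card_pPrimeCore_coprime p)
  have hker : φ.ker = O.subgroupOf N := by
    ext x
    rw [MonoidHom.mem_ker, mem_subgroupOf, ← QuotientGroup.eq_one_iff]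
    constructor
    · intro h
      exact congrArg Subtype.val h
    · intro h
      exact Subtype.ext h
  have h2 : pPrimeCore p ↥N ≤ φ.ker := by
    intro x hx
    rw [MonoidHom.mem_ker]
    exact (mem_bot).mp (h1 (mem_map_of_mem _ hx))
  have h3 : φ.ker ≤ pPrimeCore p ↥N := by
    apply Cfsg.Agent.Lib.Lead.le_pPrimeCore inferInstance
    rw [hker]
    apply coprime_of_not_dvd
    intro hd
    apply hO
    refine hd.trans ?_
    have : Nat.card (O.subgroupOf N) = Nat.card (O ⊓ N : Subgroup G) := by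
      rw [← inf_subgroupOf_right]
      exact Nat.card_congr (subgroupOfEquivOfLe inf_le_right).toEquiv
    rw [this]
    exact card_dvd_of_le inf_le_left
  have h4 : φ.ker = pPrimeCore p ↥N := le_antisymm h3 h2
  constructor
  · apply pLayer_eq_bot_of_layer_quotient
    let e : ↥N ⧸ pPrimeCore p ↥N ≃* ↥(N.map (QuotientGroup.mk' O)) :=
      (QuotientGroup.quotientMulEquivOfEq h4.symm).trans
        (QuotientGroup.quotientKerEquivOfSurjective φ hφs)
    have h5 := layer_map_equiv e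
    rw [hE'] at h5
    exact (map_eq_bot_iff_of_injective _ e.injective).mp h5
  · rintro _ ⟨x, hx, rfl⟩
    have h5 := h2 hx
    rw [hker] at h5
    exact h5

end Cfsg.Agent.Lib.Helper22
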